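import Cfsg.Agent.H0.TC
set_option maxRecDepth 100000
namespace H0.TCM220
open H0
noncomputable def r0 : TC.WTr := (.node (.node (.node (.node (.node (.node (.leaf [0] 0 0 false) (.leaf [6, 15, 7, 10] 36 1 true)) (.leaf [13, 9, 6, 13, 11] 38 0 false)) (.node (.leaf [1, 0, 2] 58 3 false) (.leaf [8] 8 1 false))) (.node (.node (.node (.leaf [10, 3, 6, 2, 14] 63 2 false) (.leaf [14, 14] 16 0 false)) (.leaf [9] 8 0 false)) (.node (.leaf [6, 4, 11, 5, 6, 9] 55 2 true) (.leaf [13, 15] 18 0 false)))) (.node (.node (.node (.node (.leaf [0] 0 0 false) (.leaf [7, 9, 7, 7] 32 4 false)) (.leaf [4, 15, 6, 4] 49 1 false)) (.node (.leaf [5] 4 0 false) (.leaf [12, 10, 12, 10, 12] 21 0 false))) (.node (.node (.node (.leaf [14, 1, 10, 3, 6] 63 0 false) (.leaf [2, 3, 4, 9, 1, 3] 69 5 true)) (.leaf [9] 8 0 false)) (.node (.leaf [15, 10, 12, 7, 4, 3] 50 2 false) (.leaf [13] 12 0 false))))) (.node (.node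 (.node (.node (.node (.leaf [15, 9, 13, 0, 10] 65 2 false) (.leaf [8, 4, 13, 11, 9, 5] 54 5 false)) (.leaf [8, 12, 14, 0, 9, 0] 67 0 true)) (.node (.leaf [11, 2, 13, 1, 7, 14, 4] 70 6 false) (.leaf [10] 10 0 false))) (.node (.node (.node (.leaf [1] 1 1 false) (.leaf [15] 14 0 false)) (.leaf [5, 15, 2, 10, 1, 15] 68 4 false)) (.node (.leaf [8, 7, 4, 11, 5, 7] 55 4 false) (.leaf [6, 13, 9, 6, 13] 38 5 false)))) (.node (.node (.node (.node (.leaf [15, 8, 5, 15, 2, 10] 68 2 false) (.leaf [15] 14 0 false)) (.leaf [8, 12, 7, 11, 12] 38 2 true)) (.node (.leaf [6, 5, 3, 4, 3, 5, 3, 4, 3, 4] 43 10 true) (.leaf [10] 10 0 false))) (.node (.node (.node (.leaf [1] 1 1 false) (.leaf [10, 12, 3, 7] 48 1 true)) (.leaf [9, 10] 30 0 false)) (.node (.leaf [7] 6 0 false) (.leaf [4, 8, 11, 12, 5, 9] 54 1 true))))))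
noncomputable def r1 : TC.WTr := (.node (.node (.node (.node (.node (.node (.leaf [5, 2, 11, 5, 5] 66 0 false) (.leaf [12] 12 1 false)) (.leaf [8, 11, 7, 9, 9] 31 4 true)) (.node (.leaf [6, 2, 14, 1, 10] 63 4 false) (.leaf [8] 8 1 false))) (.node (.node (.node (.leaf [2] 1 0 false) (.leaf [15] 14 0 false)) (.leaf [5, 3, 1, 14, 3, 2] 69 4 false)) (.node (.leaf [4] 4 1 false) (.leaf [10, 11, 10] 19 1 false)))) (.node (.node (.node (.node (.leaf [2] 1 0 false) (.leaf [10, 13, 10, 13, 10] 21 0 true)) (.leaf [13, 10, 6, 14] 36 2 false)) (.node (.leaf [11, 1, 4, 0, 4] 66 1 true) (.leaf [13, 5, 12, 8, 5, 6] 53 5 false))) (.node (.node (.node (.leaf [3, 1, 0] 58 2 false) (.leaf [2, 10, 1, 15, 8, 5] 68 6 false)) (.leaf [8] 8 1 false)) (.node (.leaf [4] 4 1 false) (.leaf [10, 7, 4, 9, 13, 4] 53 0 true))))) (.node (.node (.node (.node (.node (.leaf [6, 8, 12, 14, 0, 9] 67 6 true) (.leaf [13,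 13] 17 0 true)) (.leaf [6] 6 1 false)) (.node (.leaf [3] 3 0 false) (.leaf [1, 15, 8, 5, 15, 2] 68 1 false))) (.node (.node (.node (.leaf [10, 1, 15, 8, 5, 15] 68 0 false) (.leaf [14] 14 1 false)) (.leaf [10, 8] 30 2 true)) (.node (.leaf [14, 8, 5, 14, 8] 51 0 false) (.leaf [11] 11 0 false)))) (.node (.node (.node (.node (.leaf [14, 3, 2, 8, 5, 3] 69 0 false) (.leaf [5, 6, 5, 7] 49 1 true)) (.leaf [7, 13, 7, 9] 32 2 false)) (.node (.leaf [13, 11, 9, 5, 13, 8] 54 0 false) (.leaf [11] 11 0 false))) (.node (.node (.node (.leaf [3] 3 0 false) (.leaf [1, 7, 3, 10, 2] 63 4 true)) (.leaf [7, 0, 8, 0, 15, 13] 67 5 false)) (.node (.leaf [8, 6, 12, 6] 32 2 true) (.leaf [7, 11, 12, 7, 8] 38 4 true))))))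
noncomputable def r2 : TC.WTr := (.node (.node (.node (.node (.node (.node (.leaf [2, 3, 1] 58 1 false) (.leaf [1, 11, 3, 5, 15, 6, 2] 70 6 true)) (.leaf [12, 6, 6, 8] 32 4 true)) (.node (.leaf [5, 15, 10, 12, 7, 4] 50 1 false) (.leaf [8] 8 1 false))) (.node (.node (.node (.leaf [0, 1, 5, 2, 0, 2, 0, 2, 0] 59 6 false) (.leaf [0, 10, 0, 12, 8] 65 2 true)) (.leaf [0, 15, 13, 9, 7, 0] 67 1 false)) (.node (.leaf [3, 5, 6, 13, 10, 14] 50 4 true) (.leaf [3, 5, 15, 6, 2, 12, 1] 70 0 true)))) (.node (.node (.node (.node (.leaf [0] 0 0 false) (.leaf [9, 13, 10, 8, 13, 9] 40 3 false)) (.leaf [10, 12, 6, 15] 36 4 true)) (.node (.leaf [0, 4, 4, 11, 1] 66 4 true) (.leaf [6, 14, 7, 13] 36 4 false))) (.node (.node (.node (.leaf [2, 2, 2] 57 0 true) (.leaf [15, 15] 16 0 true)) (.leaf [9] 8 0 false)) (.node (.leaf [5, 3, 4, 3, 5, 3, 4, 4, 3, 4, 9] 44 0 false) (.leaf [0, 3, 10, 12, 0] 64 1 false)))))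 (.node (.node (.node (.node (.node (.leaf [13, 10, 3, 0, 13] 64 5 true) (.leaf [15, 11] 18 1 false)) (.leaf [7] 6 0 false)) (.node (.leaf [4, 9, 5, 5, 3, 4, 3, 5, 3, 4, 4] 44 9 false) (.leaf [0, 15, 9, 13, 0] 65 1 false))) (.node (.node (.node (.leaf [15, 1, 7, 3, 10] 63 3 true) (.leaf [15] 14 0 false)) (.leaf [12, 7, 11, 12, 7] 38 3 true)) (.node (.leaf [2, 11, 5, 5, 0] 66 1 false) (.leaf [5, 5, 0, 5, 2] 66 3 false)))) (.node (.node (.node (.node (.leaf [4, 0, 4, 4, 11] 66 3 true) (.leaf [1, 10, 3, 6, 2] 63 1 false)) (.leaf [8, 7, 8, 7, 8, 7, 8, 7, 8] 35 1 true)) (.node (.leaf [15, 6, 4, 7] 49 2 false) (.leaf [10] 10 0 false))) (.node (.node (.node (.leaf [1] 1 1 false) (.leaf [13, 10, 12, 14, 10] 27 1 false)) (.leaf [13, 0, 10, 0, 15] 65 4 false)) (.node (.leaf [3, 13, 10, 14] 48 4 false) (.leaf [12, 12] 17 0 false))))))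
noncomputable def r3 : TC.WTr := (.node (.node (.node (.node (.node (.node (.leaf [10, 0, 12, 8, 14] 65 3 true) (.leaf [1, 7, 14, 4, 3, 11, 2] 70 1 false)) (.leaf [2, 14, 1, 10, 3] 63 5 false)) (.node (.leaf [7, 15, 10, 12] 48 4 true) (.leaf [8] 8 1 false))) (.node (.node (.node (.leaf [2] 1 0 false) (.leaf [15] 14 0 false)) (.leaf [8, 10] 30 1 true)) (.node (.leaf [5, 3, 5, 3, 4, 3, 5, 3, 4, 7] 43 0 false) (.leaf [9, 11, 10, 8] 37 1 false)))) (.node (.node (.node (.node (.leaf [1, 1, 1] 57 0 false) (.leaf [0, 13, 10, 3, 0] 64 4 true)) (.leaf [9, 9, 6, 8, 11] 31 1 true)) (.node (.leaf [9, 1, 3, 15, 2, 3] 69 1 true) (.leaf [9, 9] 30 2 false))) (.node (.node (.node (.leaf [1] 1 1 false) (.leaf [4, 9, 15, 4, 9] 51 1 true)) (.leaf [15, 4, 9, 15, 4] 51 0 true)) (.node (.leaf [4] 4 1 false) (.leaf [11, 14] 18 1 true))))) (.node (.node (.node (.node (.node (.leaf [2, 0, 1, 0, 1, 5, 2, 0,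 2] 59 3 false) (.leaf [9, 10, 12, 10, 14, 8, 15] 41 6 true)) (.leaf [0, 8, 0, 15, 13, 9] 67 6 false)) (.node (.leaf [3] 3 0 false) (.leaf [8, 8] 30 0 true))) (.node (.node (.node (.leaf [8, 5, 3, 1, 14, 3] 69 3 false) (.leaf [9, 13, 0, 10, 0] 65 3 false)) (.leaf [14, 0, 10, 0, 12] 65 1 true)) (.node (.leaf [13, 8, 4, 13, 11, 9] 54 4 false) (.leaf [11] 11 0 false)))) (.node (.node (.node (.node (.leaf [7, 3, 10, 2, 15] 63 5 true) (.leaf [6, 3, 13, 10] 48 3 false)) (.leaf [6] 6 1 false)) (.node (.leaf [13, 5, 5, 10, 14, 4] 56 1 false) (.leaf [14, 12] 18 2 true))) (.node (.node (.node (.leaf [10, 12, 0, 12, 0] 64 3 false) (.leaf [14] 14 1 false)) (.leaf [8] 8 1 false)) (.node (.leaf [15, 7, 10, 12] 36 2 true) (.leaf [10, 8, 12, 9, 12, 9] 39 5 false))))))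
noncomputable def tS : Tr := (.leaf (nat_lit 0xffdddb42a4a3717526bab42d493eebc056aa9ee40d3ff806e7b39ea9d61cc2e59816bfb45df4c9da0cb00ffe409725fa96d20c0691aa67b1ee0b2c94976bf95fff9833b9722fba4692043097eb8b268cbe6e8b4aa5fff00a6ebd97eae200302065aa29f8baab1a2ecdaf3ffafdc7986bf9e28ebaed5a2830ac6572b670a1a85ffdde7e6a99e07d19c191157c5a8e16a64092e619c7ff76e7a3e2ea49d246bd52b4819a98ce7cb017bd82fff2a71a799ee92701be669bd9e8ca90314aee79067ff18018711da54a3a6a4cfa96787bdeea28fc7e19affd7c54e405f5120604c385a97e2bd7684b8227b607ff9ee1454e7a4a4e1060635652781ad362dbe451eeffd6b2824e4f9166a4e8c0112060b8ba063749a7987ff1107a4d9395b1af5b88a902793a8cf0627898857ffebb891978510e6567c712e970dc7a92a5060459e3ff2e56b83916495161d9af2719b05c71228567610effcb527d263d0f43f0fd320716be7840445704179efff812658b631a94551505314a2e97ce98d4177045cffc450bc2f1145b0bc670ec3a1748a3205d17c000e7ff0e0603855243437384360d4b62cc2d0d0000cc2effc591bc430b4850b4430b46f214440c8430c430003ff0000000000000000000000000000000001906017))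
noncomputable def tJ : Tr := (.leaf (nat_lit 0x20484e120408180263b820404293880201ce311607500e34208d10c010008101100280e701c0d418a8380c64800501800680e500000000c0208c011800034050000048000000a3618a021803000c0000c0000050300508064000c30000000400198042b1c01b4a01006401004308005000300c8d10c8730c8000d200000000da03000900401300020084001c6d10000104601008000c00000006908010000010640000001c8d094a0010000142310162180020800118040008020004058040200053000000c002ac21080010802200001000005804000040000000002102c010002000421004200002002c005294a5294a5294a50000))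
noncomputable def tQ : Tr := (.leaf (nat_lit 0x0))
noncomputable def tR : TC.WTr := (.node (.node r0 r1) (.node r2 r3))
def hl : List ℕ := [3, 4, 5, 5, 4, 6, 7, 7, 6, 8, 9, 9, 8, 10, 11, 12, 13, 13, 12, 14, 15, 15, 14]
def B : List (List ℕ) := [[0, 0], [1, 2], [2, 1], [3, 3], [4, 5], [5, 4], [6, 7], [7, 6], [8, 9], [9, 8], [10, 10], [11, 11], [12, 13], [13, 12], [14, 15], [15, 14], [14, 14, 14], [12, 12, 12], [11, 13, 15], [10, 11, 10, 11], [10, 11, 10, 11], [10, 12, 10, 12, 10, 12], [10, 12, 10, 13, 10, 12, 10, 13], [10, 13, 10, 13, 10, 13], [11, 12, 11, 12, 11, 12], [11, 12, 11, 13, 11, 12, 11, 13], [11, 13, 11, 13, 11, 13], [10, 15, 13, 10, 12, 14], [6, 6, 6, 6, 6], [8, 8, 8, 8], [9, 9, 10], [9, 7, 8, 8, 6, 11], [7, 9, 7, 7, 13], [6, 8, 6, 8, 6, 8, 6, 8, 6, 8], [6, 8, 7, 9, 6, 8, 7, 9, 6, 8, 7, 9], [6, 9, 6, 9, 6, 9, 6, 9, 6, 9], [6, 14, 7, 13, 10], [8, 11, 9, 11, 10], [6, 13,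 9, 6, 13, 11], [8, 12, 9, 12, 9, 12, 10], [8, 13, 9, 13, 9, 13, 10], [8, 12, 14, 9, 15, 10, 13, 10], [4, 4, 4, 4], [5, 5, 3, 5, 3, 4, 3, 5, 3, 4, 7], [5, 5, 3, 4, 3, 5, 3, 4, 4, 3, 4, 9], [3, 4, 3, 4, 3, 4, 3, 4, 3, 4, 3, 4, 3, 4], [3, 4, 3, 5, 3, 4, 3, 5, 3, 4, 3, 5, 3, 4, 3, 5, 3, 4, 3, 5], [3, 5, 3, 5, 3, 5, 3, 5, 3, 5, 3, 5, 3, 5], [3, 13, 10, 14, 6], [4, 7, 4, 15, 6], [4, 3, 5, 15, 10, 12, 7], [5, 14, 8, 5, 14, 8], [4, 4, 11, 5, 5, 11], [5, 12, 8, 5, 6, 10, 13], [4, 13, 11, 9, 5, 13, 8], [4, 11, 5, 7, 5, 8, 7], [4, 4, 13, 5, 5, 10, 14], [1, 1, 1, 1], [1, 0, 2, 3], [2, 0, 2, 0, 2, 0, 1, 0, 1, 5], [0, 1, 0, 1, 0, 1, 0, 1, 0, 1, 0, 1, 0, 1, 0, 1, 0, 1, 0, 1, 0, 1], [0, 1, 0, 2, 0, 1, 0, 2, 0, 1, 0, 2, 0, 1, 0, 2], [0, 2, 0, 2, 0, 2, 0, 2, 0, 2, 0, 2, 0, 2, 0, 2, 0, 2, 0, 2, 0, 2], [2, 14, 1, 10, 3, 6], [0, 12, 0, 3, 10, 12], [0, 10, 0, 15, 9, 13], [0, 5, 2, 11, 5, 5], [0, 8, 0,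 15, 13, 9, 7], [2, 10, 1, 15, 8, 5, 15], [1, 14, 3, 2, 8, 5, 3], [2, 13, 1, 7, 14, 4, 3, 11]]
def subs : List (List ℕ) := [[3], [4], [5], [6], [7], [8], [9], [10], [11], [12], [13], [14], [15]]
def ex : List (List ℕ) := []
def inv (x : ℕ) : ℕ := [0, 2, 1, 3, 5, 4, 7, 6, 9, 8, 10, 11, 13, 12, 15, 14].getD x 0
noncomputable def rS : ℕ → ℕ := rowOf tS (nat_lit 7) (nat_lit 127) (nat_lit 170) (nat_lit 1496577676626844588240573268701473812127674924007423)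
noncomputable def rJ : ℕ → ℕ := rowOf tJ (nat_lit 7) (nat_lit 127) (nat_lit 90) (nat_lit 1237940039285380274899124223)
noncomputable def C : TC.Cfg where
  S := look rS (nat_lit 10) (nat_lit 1023)
  J := look rJ (nat_lit 5) (nat_lit 31)
  Q := lookQ tQ (nat_lit 7) (nat_lit 1) (nat_lit 1)
  R := tR.get
  hl := fun x => hl.contains x
  n := (nat_lit 22)
  M := (nat_lit 22)
  top := (nat_lit 836)
  nl := (nat_lit 16)
  need := (nat_lit 16)
  nr := (nat_lit 10)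
theorem k0 : TC.chkRange C 0 1 = true := by decide +kernel
theorem rows0 : ∀ c < (0 + 1) * 64, c < C.M → TC.chkRow C c = true :=
  TC.rows_step (TC.rows_zero C) k0
theorem main {G : Type*} [Group G] (g : ℕ → G) (hB : ∀ r ∈ B, ev g r = 1) (H : Subgroup G)
    (hH : ∀ w ∈ subs, ev g w ∈ H) :
    H.relIndex (Subgroup.closure (g '' {x | x < 16})) ≠ 0 ∧
      H.relIndex (Subgroup.closure (g '' {x | x < 16})) ≤ 22 :=
  TC.index_le C B subs ex inv hl tR.hint rfl (by decide +kernel) (by decide +kernel)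
    (TC.rows_done rows0 (by decide +kernel)) g hB H hH
end H0.TCM220
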